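import Cfsg.Agent.Lib.Helper29.TcCox
import Cfsg.Prelude.Def_Spor_Fi22
import Cfsg.Agent.Lib.Helper29.FiC.Tab0

/-! Generated certificate data for FiC (Fi22): tables of a Todd–Coxeter trace and of the coset action. -/

set_option autoImplicit false

namespace Cfsg.Agent.Lib.Helper29.FiC

open Cfsg.Agent.Lib.Helper29.TcTrace Cfsg.Agent.Lib.Helper29.TcCert Cfsg.Agent.Lib.Helper29.TcPerm

def nodesL : List Cfsg.Spor.Fi22.Gen := [.b, .c, .d, .e, .f, .g, .h]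
def edgesQ : List (Cfsg.Spor.Fi22.Gen × ℕ × Cfsg.Spor.Fi22.Gen) := [(.b, 3, .c), (.c, 3, .d), (.d, 3, .e), (.d, 3, .h), (.e, 3, .f), (.f, 3, .g)]
def extraWords : List (List (Cfsg.Spor.Fi22.Gen × Bool)) := [[(.b, true), (.c, true), (.d, true), (.e, true), (.f, true), (.g, true), (.h, true), (.b, true), (.c, true), (.d, true), (.e, true), (.f, true), (.g, true), (.h, true), (.b, true), (.c, true), (.d, true), (.e, true), (.f, true), (.g, true), (.h, true), (.b, true), (.c, true), (.d, true), (.e, true), (.f, true), (.g, true), (.h, true), (.b, true), (.c, true), (.d, true), (.e, true), (.f, true), (.g, true), (.h, true), (.b, true), (.c, true), (.d, true), (.e, true), (.f, true), (.g, true), (.h, true), (.b, true), (.c, true), (.d, true), (.e, true), (.f, true), (.g, true), (.h, true), (.b, true),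 (.c, true), (.d, true), (.e, true), (.f, true), (.g, true), (.h, true), (.b, true), (.c, true), (.d, true), (.e, true), (.f, true), (.g, true), (.h, true)],
  [(.a, true)],
  [(.i, true)]]
def hWords : List (List (Cfsg.Spor.Fi22.Gen × Bool)) := [[(.b, true)],
  [(.c, true)],
  [(.d, true)],
  [(.e, true)],
  [(.f, true)],
  [(.g, true)]]
def colOf : Cfsg.Spor.Fi22.Gen × Bool → ℕ
  | (.a, true) => 0
  | (.a, false) => 1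
  | (.b, _) => 2
  | (.c, _) => 3
  | (.d, _) => 4
  | (.e, _) => 5
  | (.f, _) => 6
  | (.g, _) => 7
  | (.h, _) => 8
  | (.i, true) => 9
  | (.i, false) => 10
def colLetters : List (Cfsg.Spor.Fi22.Gen × Bool) := [(.a, true), (.a, false), (.b, true), (.c, true), (.d, true), (.e, true), (.f, true), (.g, true), (.h, true), (.i, true), (.i, false)]
def invL : List ℕ := [1, 0, 2, 3, 4, 5, 6, 7, 8, 10, 9]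
def vtree : WTree := (.node (.node (.node (.node (.node (.node (.node (.leaf 48 0 []) (.leaf 42 1 [11, 2])) (.node (.leaf 17 0 [4, 8, 4, 8, 4, 8]) (.leaf 48 0 []))) (.node (.node (.leaf 8 1 [4, 3, 4, 3, 4, 3]) (.leaf 48 0 [])) (.node (.leaf 26 1 [8, 7, 8, 7]) (.leaf 48 0 [])))) (.node (.node (.node (.leaf 4 0 [2, 6, 2, 6]) (.leaf 46 1 [15, 6])) (.node (.leaf 21 1 [8, 5, 8, 5]) (.leaf 48 0 []))) (.node (.node (.leaf 12 1 [8, 3, 8, 3]) (.leaf 48 0 [])) (.node (.leaf 28 6 [8, 2, 3, 4, 5, 6, 7, 8, 2, 3, 4, 5, 6, 7, 8, 2, 3, 4, 5, 6, 7, 8, 2, 3, 4, 5, 6, 7, 8, 2, 3, 4, 5, 6, 7, 8, 2, 3, 4, 5, 6, 7, 8, 2, 3, 4, 5, 6, 7, 8, 2, 3, 4, 5, 6, 7, 8, 2, 3, 4, 5, 6, 7]) (.leaf 48 0 []))))) (.node (.node (.node (.node (.leaf 2 0 [2, 4, 2, 4]) (.leaf 44 1 [13, 4])) (.node (.leaf 19 1 [6, 5, 6, 5, 6, 5]) (.leaf 48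 0 []))) (.node (.node (.leaf 10 1 [6, 3, 6, 3]) (.leaf 48 0 [])) (.node (.leaf 28 2 [4, 5, 6, 7, 8, 2, 3, 4, 5, 6, 7, 8, 2, 3, 4, 5, 6, 7, 8, 2, 3, 4, 5, 6, 7, 8, 2, 3, 4, 5, 6, 7, 8, 2, 3, 4, 5, 6, 7, 8, 2, 3, 4, 5, 6, 7, 8, 2, 3, 4, 5, 6, 7, 8, 2, 3, 4, 5, 6, 7, 8, 2, 3]) (.leaf 48 0 [])))) (.node (.node (.node (.leaf 6 0 [2, 8, 2, 8]) (.leaf 48 0 [])) (.node (.leaf 24 0 [6, 8, 6, 8]) (.leaf 48 0 []))) (.node (.node (.leaf 15 0 [4, 6, 4, 6]) (.leaf 48 0 [])) (.node (.leaf 31 1 [1, 0]) (.leaf 48 0 [])))))) (.node (.node (.node (.node (.node (.leaf 1 0 [2, 3, 2, 3, 2, 3]) (.leaf 43 1 [12, 3])) (.node (.leaf 18 0 [5, 5]) (.leaf 48 0 []))) (.node (.node (.leaf 9 1 [5, 3, 5, 3]) (.leaf 48 0 [])) (.node (.leaf 28 0 [2, 3, 4, 5, 6, 7, 8, 2, 3, 4, 5, 6, 7, 8, 2, 3, 4, 5, 6, 7, 8, 2, 3, 4, 5, 6, 7, 8, 2,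 3, 4, 5, 6, 7, 8, 2, 3, 4, 5, 6, 7, 8, 2, 3, 4, 5, 6, 7, 8, 2, 3, 4, 5, 6, 7, 8, 2, 3, 4, 5, 6, 7, 8]) (.leaf 48 0 [])))) (.node (.node (.node (.leaf 5 0 [2, 7, 2, 7]) (.leaf 47 1 [16, 7])) (.node (.leaf 23 0 [6, 7, 6, 7, 6, 7]) (.leaf 48 0 []))) (.node (.node (.leaf 14 0 [4, 5, 4, 5, 4, 5]) (.leaf 48 0 [])) (.node (.leaf 30 0 [9]) (.leaf 48 0 []))))) (.node (.node (.node (.node (.leaf 3 0 [2, 5, 2, 5]) (.leaf 45 1 [14, 5])) (.node (.leaf 20 1 [7, 5, 7, 5]) (.leaf 48 0 []))) (.node (.node (.leaf 11 1 [7, 3, 7, 3]) (.leaf 48 0 [])) (.node (.leaf 28 4 [6, 7, 8, 2, 3, 4, 5, 6, 7, 8, 2, 3, 4, 5, 6, 7, 8, 2, 3, 4, 5, 6, 7, 8, 2, 3, 4, 5, 6, 7, 8, 2, 3, 4, 5, 6, 7, 8, 2, 3, 4, 5, 6, 7, 8, 2, 3, 4, 5, 6, 7, 8, 2, 3, 4, 5, 6, 7, 8, 2, 3, 4, 5]) (.leaf 48 0 [])))) (.node (.node (.node (.leaf 7 0 [3, 3]) (.leaf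 48 0 [])) (.node (.leaf 25 0 [7, 7]) (.leaf 48 0 []))) (.node (.node (.leaf 16 0 [4, 7, 4, 7]) (.leaf 48 0 [])) (.node (.leaf 40 1 [10, 9]) (.leaf 48 0 []))))))) (.node (.node (.node (.node (.node (.node (.leaf 0 0 [2, 2]) (.leaf 43 0 [3, 12])) (.node (.leaf 17 1 [8, 4, 8, 4, 8, 4]) (.leaf 48 0 []))) (.node (.node (.leaf 9 0 [3, 5, 3, 5]) (.leaf 48 0 [])) (.node (.leaf 27 0 [8, 8]) (.leaf 48 0 [])))) (.node (.node (.node (.leaf 4 1 [6, 2, 6, 2]) (.leaf 47 0 [7, 16])) (.node (.leaf 22 0 [6, 6]) (.leaf 48 0 []))) (.node (.node (.leaf 13 0 [4, 4]) (.leaf 48 0 [])) (.node (.leaf 29 0 [0]) (.leaf 48 0 []))))) (.node (.node (.node (.node (.leaf 2 1 [4, 2, 4, 2]) (.leaf 45 0 [5, 14])) (.node (.leaf 20 0 [5, 7, 5, 7]) (.leaf 48 0 []))) (.node (.node (.leaf 11 0 [3, 7, 3, 7]) (.leaf 48 0 [])) (.node (.leaf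 28 3 [5, 6, 7, 8, 2, 3, 4, 5, 6, 7, 8, 2, 3, 4, 5, 6, 7, 8, 2, 3, 4, 5, 6, 7, 8, 2, 3, 4, 5, 6, 7, 8, 2, 3, 4, 5, 6, 7, 8, 2, 3, 4, 5, 6, 7, 8, 2, 3, 4, 5, 6, 7, 8, 2, 3, 4, 5, 6, 7, 8, 2, 3, 4]) (.leaf 48 0 [])))) (.node (.node (.node (.leaf 6 1 [8, 2, 8, 2]) (.leaf 48 0 [])) (.node (.leaf 24 1 [8, 6, 8, 6]) (.leaf 48 0 []))) (.node (.node (.leaf 15 1 [6, 4, 6, 4]) (.leaf 48 0 [])) (.node (.leaf 40 0 [9, 10]) (.leaf 48 0 [])))))) (.node (.node (.node (.node (.node (.leaf 1 1 [3, 2, 3, 2, 3, 2]) (.leaf 44 0 [4, 13])) (.node (.leaf 19 0 [5, 6, 5, 6, 5, 6]) (.leaf 48 0 []))) (.node (.node (.leaf 10 0 [3, 6, 3, 6]) (.leaf 48 0 [])) (.node (.leaf 28 1 [3, 4, 5, 6, 7, 8, 2, 3, 4, 5, 6, 7, 8, 2, 3, 4, 5, 6, 7, 8, 2, 3, 4, 5, 6, 7, 8, 2, 3, 4, 5, 6, 7, 8, 2, 3, 4, 5, 6, 7, 8, 2, 3, 4, 5, 6, 7, 8, 2, 3, 4,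 5, 6, 7, 8, 2, 3, 4, 5, 6, 7, 8, 2]) (.leaf 48 0 [])))) (.node (.node (.node (.leaf 5 1 [7, 2, 7, 2]) (.leaf 48 0 [])) (.node (.leaf 23 1 [7, 6, 7, 6, 7, 6]) (.leaf 48 0 []))) (.node (.node (.leaf 14 1 [5, 4, 5, 4, 5, 4]) (.leaf 48 0 [])) (.node (.leaf 31 0 [0, 1]) (.leaf 48 0 []))))) (.node (.node (.node (.node (.leaf 3 1 [5, 2, 5, 2]) (.leaf 46 0 [6, 15])) (.node (.leaf 21 0 [5, 8, 5, 8]) (.leaf 48 0 []))) (.node (.node (.leaf 12 0 [3, 8, 3, 8]) (.leaf 48 0 [])) (.node (.leaf 28 5 [7, 8, 2, 3, 4, 5, 6, 7, 8, 2, 3, 4, 5, 6, 7, 8, 2, 3, 4, 5, 6, 7, 8, 2, 3, 4, 5, 6, 7, 8, 2, 3, 4, 5, 6, 7, 8, 2, 3, 4, 5, 6, 7, 8, 2, 3, 4, 5, 6, 7, 8, 2, 3, 4, 5, 6, 7, 8, 2, 3, 4, 5, 6]) (.leaf 48 0 [])))) (.node (.node (.node (.leaf 8 0 [3, 4, 3, 4, 3, 4]) (.leaf 48 0 [])) (.node (.leaf 26 0 [7, 8, 7, 8]) (.leaf 48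 0 []))) (.node (.node (.leaf 16 1 [7, 4, 7, 4]) (.leaf 48 0 [])) (.node (.leaf 42 0 [2, 11]) (.leaf 48 0 []))))))))
noncomputable def VL : List ℕ := [V0, V1, V2, V3, V4, V5, V6, V7, V8, V9, V10]
noncomputable def RL : List ℕ := [R0, R1, R2, R3, R4, R5, R6, R7, R8, R9, R10, R11, R12, R13, R14, R15, R16]
noncomputable def D : Data := mkData 14 12096 288 8 16383 VL RL MG MT PAR PL FIN VERT vtree
def lay : Layout := ⟨14, 16383, 7, 127, 98⟩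
def cols : List ℕ := [0, 1, 2, 3, 4, 5, 6, 7, 8, 9, 10]
def baseL : List (List ℕ) := [[2, 2],
  [2, 3, 2, 3, 2, 3],
  [2, 4, 2, 4],
  [2, 5, 2, 5],
  [2, 6, 2, 6],
  [2, 7, 2, 7],
  [2, 8, 2, 8],
  [3, 3],
  [3, 4, 3, 4, 3, 4],
  [3, 5, 3, 5],
  [3, 6, 3, 6],
  [3, 7, 3, 7],
  [3, 8, 3, 8],
  [4, 4],
  [4, 5, 4, 5, 4, 5],
  [4, 6, 4, 6],
  [4, 7, 4, 7],
  [4, 8, 4, 8, 4, 8],
  [5, 5],
  [5, 6, 5, 6, 5, 6],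
  [5, 7, 5, 7],
  [5, 8, 5, 8],
  [6, 6],
  [6, 7, 6, 7, 6, 7],
  [6, 8, 6, 8],
  [7, 7],
  [7, 8, 7, 8],
  [8, 8],
  [2, 3, 4, 5, 6, 7, 8, 2, 3, 4, 5, 6, 7, 8, 2, 3, 4, 5, 6, 7, 8, 2, 3, 4, 5, 6, 7, 8, 2, 3, 4, 5, 6, 7, 8, 2, 3, 4, 5, 6, 7, 8, 2, 3, 4, 5, 6, 7, 8, 2, 3, 4, 5, 6, 7, 8, 2, 3, 4, 5, 6, 7, 8],
  [0],
  [9],
  [0, 1],
  [1, 0],
  [2, 2],
  [3, 3],
  [4, 4],
  [5, 5],
  [6, 6],
  [7, 7],
  [8, 8],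
  [9, 10],
  [10, 9],
  [2, 11],
  [3, 12],
  [4, 13],
  [5, 14],
  [6, 15],
  [7, 16]]
noncomputable def LL : List ℕ := [L0, L1, L2, L3, L4, L5, L6, L7, L8, L9, L10]
noncomputable def P : LP where
  WL := 12
  WLn := 3456
  mskL := 4095
  LL := LL
  cols := [0, 1, 2, 3, 4, 5, 6, 7, 8, 9, 10]
  rels := [[2, 2],
    [2, 3, 2, 3, 2, 3],
    [2, 4, 2, 4],
    [2, 5, 2, 5],
    [2, 6, 2, 6],
    [2, 7, 2, 7],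
    [2, 8, 2, 8],
    [3, 3],
    [3, 4, 3, 4, 3, 4],
    [3, 5, 3, 5],
    [3, 6, 3, 6],
    [3, 7, 3, 7],
    [3, 8, 3, 8],
    [4, 4],
    [4, 5, 4, 5, 4, 5],
    [4, 6, 4, 6],
    [4, 7, 4, 7],
    [4, 8, 4, 8, 4, 8],
    [5, 5],
    [5, 6, 5, 6, 5, 6],
    [5, 7, 5, 7],
    [5, 8, 5, 8],
    [6, 6],
    [6, 7, 6, 7, 6, 7],
    [6, 8, 6, 8],
    [7, 7],
    [7, 8, 7, 8],
    [8, 8],
    [2, 3, 4, 5, 6, 7, 8, 2, 3, 4, 5, 6, 7, 8, 2, 3, 4, 5, 6, 7, 8, 2, 3, 4, 5, 6, 7, 8, 2, 3, 4, 5, 6, 7, 8, 2, 3, 4, 5, 6, 7, 8, 2, 3, 4, 5, 6, 7, 8, 2, 3, 4, 5, 6, 7, 8, 2, 3, 4, 5, 6, 7, 8],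
    [0],
    [9],
    [0, 1],
    [1, 0],
    [2, 2],
    [3, 3],
    [4, 4],
    [5, 5],
    [6, 6],
    [7, 7],
    [8, 8],
    [9, 10],
    [10, 9]]
  hws := [[2],
    [3],
    [4],
    [5],
    [6],
    [7]]
  twl := [[],
    [2],
    [3],
    [4],
    [5],
    [6],
    [7],
    [0],
    [1],
    [2],
    [3],
    [4],
    [5],
    [6],
    [7],
    [8],
    [9],
    [10]]
  nH := 6
  bounds := [12, 432, 1692, 3372]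

end Cfsg.Agent.Lib.Helper29.FiC
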